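import Cfsg.Agent.Lib.PrimePowerClass.SimpleNormal
import Cfsg.Agent.Lib.MinimalNormal
import Cfsg.Agent.Lib.CharSimple.Basic
import Cfsg.Agent.Lib.Core.PiCore
import Cfsg.Agent.Lib.SylowNumber.Basic

/-!
An element of prime power order `q ^ b` with class of `p`-power size lies in `O_q(G)` when
`O_p(G) = 1`.
-/

set_option autoImplicit false
set_option linter.style.haveILetI false

namespace Cfsg.Agent.Lib.PrimePowerClass

open Cfsg
open Cfsg.Agent.Lib

universe u

variable {G : Type u} [Group G] [Finite G] {p : ℕ}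

/-- The relative index of a subgroup in a normal subgroup divides its index. -/
theorem relIndex_dvd_index_of_normal' (C R : Subgroup G) [R.Normal] : C.relIndex R ∣ C.index := by
  rw [← SylowNumber.relIndex_sup_normal C C R le_rfl]
  exact Dvd.intro _ (Subgroup.relIndex_mul_index le_sup_left)

/-- A prime power order element of a nilpotent normal subgroup lies in the corresponding core. -/
theorem mem_pCore_of_nilpotent_normal {q : ℕ} [Fact q.Prime] (J : Subgroup G) [J.Normal]
    (hJ : Group.IsNilpotent J) {x : G} (hxJ : x ∈ J) (hx : ∃ b, orderOf x = q ^ b) :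
    x ∈ pCore q G := by
  obtain ⟨b, hb⟩ := hx
  have hxp : IsPGroup q (Subgroup.zpowers (⟨x, hxJ⟩ : J)) :=
    IsPGroup.of_card (n := b) (by rw [Nat.card_zpowers, Subgroup.orderOf_mk, hb])
  obtain ⟨P, hP⟩ := hxp.exists_le_sylow
  have hPn : (P : Subgroup J).Normal :=
    P.normal_of_normalizerCondition Group.normalizerCondition_of_isNilpotent
  haveI := Sylow.characteristic_of_normal P hPn
  haveI : ((P : Subgroup J).map J.subtype).Normal := inferInstance
  exact PSolvable.le_pCore (P.2.map J.subtype)
    (Subgroup.mem_map_of_mem J.subtype (hP (Subgroup.mem_zpowers _)))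

variable [hp : Fact p.Prime]

omit [Finite G] in
theorem index_centralizer_map_dvd {H : Type u} [Group H] [Finite H] {f : G →* H}
    (hf : Function.Surjective f) (x : G) :
    (Subgroup.centralizer ({f x} : Set H)).index ∣ (Subgroup.centralizer ({x} : Set G)).index := by
  refine dvd_trans (Subgroup.index_dvd_of_le ?_) (Subgroup.index_map_dvd _ hf)
  rintro _ ⟨c, hc, rfl⟩
  rw [SetLike.mem_coe, Subgroup.mem_centralizer_singleton_iff] at hc
  rw [Subgroup.mem_centralizer_singleton_iff, ← map_mul, ← map_mul, hc]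

/-- The centraliser of a minimal non-abelian normal subgroup contains such an element. -/
theorem mem_centralizer_of_minimal (hpc : pCore p G = ⊥) {q a b : ℕ} (hq : q.Prime) (x : G)
    (hx : orderOf x = q ^ b) (hcl : (Subgroup.centralizer ({x} : Set G)).index = p ^ a)
    (N : Subgroup G) [N.Normal] (hN : N ≠ ⊥)
    (hmin : ∀ K : Subgroup G, K.Normal → K ≤ N → K = ⊥ ∨ K = N) :
    x ∈ Subgroup.centralizer (N : Set G) := by
  classical
  set C := Subgroup.centralizer ({x} : Set G) with hC
  obtain ⟨j, -, hj⟩ := (Nat.dvd_prime_pow hp.out).1 (hcl ▸ relIndex_dvd_index_of_normal' C N)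
  by_cases hab : IsMulCommutative N
  · -- abelian
    haveI := hab
    haveI : Group.IsSolvable N := Group.isSolvable_of_comm fun a b => hab.1.1 a b
    obtain ⟨-, r, hr, hexp⟩ := MinimalNormal.elementaryAbelian N hN hmin
    haveI := Fact.mk hr
    have hNr : IsPGroup r N := fun n => ⟨1, Subtype.ext (by simpa using hexp n n.2)⟩
    have hrp : r ≠ p := fun h => hN (le_bot_iff.1 (hpc ▸ PSolvable.le_pCore (h ▸ hNr)))
    obtain ⟨k, hk⟩ := hNr.exists_card_eq
    have hdvd : C.relIndex N ∣ r ^ k := hk ▸ Subgroup.relIndex_dvd_card C N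
    have h1 : C.relIndex N = 1 := by
      rw [hj] at hdvd ⊢
      rcases Nat.eq_zero_or_pos j with h | h
      · rw [h, pow_zero]
      · exact absurd ((Nat.prime_dvd_prime_iff_eq hp.out hr).1
          (hp.out.dvd_of_dvd_pow ((dvd_pow_self p h.ne').trans hdvd))) (Ne.symm hrp)
    rw [Subgroup.relIndex_eq_one] at h1
    exact Subgroup.mem_centralizer_iff.2 fun n hn =>
      Subgroup.mem_centralizer_singleton_iff.1 (h1 hn)
  · -- non-abelian
    haveI : Nontrivial N := (Subgroup.nontrivial_iff_ne_bot N).2 hN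
    obtain ⟨S, _, hS, n, -, ⟨e⟩⟩ := CharSimple.exists_mulEquiv_pi (G := N) (fun H hH => by
      haveI := hH
      rcases hmin (H.map N.subtype) inferInstance (Subgroup.map_subtype_le H) with h | h
      · exact Or.inl ((Subgroup.map_eq_bot_iff_of_injective H N.subtype_injective).1 h)
      · exact Or.inr (Subgroup.map_injective N.subtype_injective
          (h.trans (by rw [← MonoidHom.range_eq_map, Subgroup.range_subtype]))))
    have hSna : ¬ IsMulCommutative S := fun hc => hab ⟨⟨fun a b => e.injective (by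
      rw [map_mul, map_mul]; funext i; exact hc.1.1 _ _)⟩⟩
    haveI := hS
    let fac : Fin n → (S →* G) := fun i =>
      N.subtype.comp (e.symm.toMonoidHom.comp (MonoidHom.mulSingle (fun _ : Fin n => S) i))
    have hfac : ∀ i, Function.Injective (fac i) := fun i =>
      N.subtype_injective.comp (e.symm.injective.comp
        (Pi.mulSingle_injective (M := fun _ : Fin n => S) i))
    have key : ∀ i s, x * fac i s = fac i s * x := by
      intro i
      set T := (fac i).range with hTdef
      have eT : S ≃* T := MonoidHom.ofInjective (hfac i)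
      haveI : Nontrivial T := eT.symm.toEquiv.nontrivial
      haveI : IsSimpleGroup T :=
        IsSimpleGroup.isSimpleGroup_of_surjective eT.toMonoidHom eT.surjective
      have hTna : ¬ IsMulCommutative T := fun hc => hSna ⟨⟨fun a b => eT.injective (by
        rw [map_mul, map_mul]; exact hc.1.1 _ _)⟩⟩
      have hTN : T ≤ N := by
        rintro _ ⟨s, rfl⟩
        exact (e.symm (Pi.mulSingle i s)).2
      have hnorm : ∀ m ∈ N, ∀ t ∈ T, m * t * m⁻¹ ∈ T := by
        rintro m hm _ ⟨s, rfl⟩
        refine ⟨e ⟨m, hm⟩ i * s * (e ⟨m, hm⟩ i)⁻¹, ?_⟩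
        show ((e.symm (Pi.mulSingle i _) : N) : G) = m * (e.symm (Pi.mulSingle i s) : N) * m⁻¹
        have h1 : e.symm (Pi.mulSingle i (e ⟨m, hm⟩ i * s * (e ⟨m, hm⟩ i)⁻¹)) =
            ⟨m, hm⟩ * e.symm (Pi.mulSingle i s) * ⟨m, hm⟩⁻¹ := by
          apply e.injective
          rw [map_mul, map_mul, map_inv, e.apply_symm_apply, e.apply_symm_apply]
          funext l
          rcases eq_or_ne l i with rfl | hl
          · simp
          · simp [Pi.mulSingle_eq_of_ne hl]
        rw [h1]
        rfl
      haveI hTnN : (T.subgroupOf N).Normal := ⟨fun t ht m =>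
        Subgroup.mem_subgroupOf.2 (hnorm m m.2 t (Subgroup.mem_subgroupOf.1 ht))⟩
      have hdvd : C.relIndex T ∣ p ^ j := by
        rw [← hj, ← Subgroup.relIndex_subgroupOf hTN]
        exact relIndex_dvd_index_of_normal' (C.subgroupOf N) (T.subgroupOf N)
      -- a non-trivial fixed element
      obtain ⟨r, hr, hrT, hrp⟩ : ∃ r, r.Prime ∧ r ∣ Nat.card T ∧ r ≠ p := by
        by_contra hno
        push Not at hno
        have hTp : IsPGroup p T := IsPGroup.of_card (Nat.eq_prime_pow_of_unique_prime_dvd
          Nat.card_pos.ne' fun {r} hr hd => hno r hr hd)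
        haveI := hTp.isNilpotent
        exact hTna ⟨⟨IsSimpleGroup.comm_iff_isSolvable.mpr inferInstance⟩⟩
      haveI := Fact.mk hr
      have hrC : r ∣ Nat.card (C ⊓ T : Subgroup G) := by
        have h1 : Nat.card (C ⊓ T : Subgroup G) * C.relIndex T = Nat.card T := by
          rw [← Subgroup.inf_relIndex_right C T]
          exact PSolvable.card_mul_relIndex inf_le_right
        rcases hr.dvd_mul.1 (h1.symm ▸ hrT) with h | h
        · exact h
        · exact absurd ((Nat.prime_dvd_prime_iff_eq hr hp.out).1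
            (hr.dvd_of_dvd_pow (h.trans hdvd))) hrp
      obtain ⟨⟨t, ht⟩, hto⟩ := exists_prime_orderOf_dvd_card' r hrC
      rw [Subgroup.orderOf_mk] at hto
      have hxT : ∀ y ∈ T, x * y * x⁻¹ ∈ T := by
        set T' := T.map (MulAut.conj x).toMonoidHom with hT'
        have hT'N : T' ≤ N := by
          rintro _ ⟨y, hy, rfl⟩
          exact Subgroup.Normal.conj_mem inferInstance y (hTN hy) x
        haveI : (T'.subgroupOf T).Normal := ⟨fun y hy g => by
          obtain ⟨y', hy', hyy⟩ := Subgroup.mem_subgroupOf.1 hy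
          have hg : x⁻¹ * g * x ∈ N := by
            have := Subgroup.Normal.conj_mem (inferInstance : N.Normal) _ (hTN g.2) x⁻¹
            simpa using this
          refine Subgroup.mem_subgroupOf.2 ⟨_, hnorm _ hg y' hy', ?_⟩
          show x * (x⁻¹ * (g : G) * x * y' * (x⁻¹ * (g : G) * x)⁻¹) * x⁻¹ = (g : G) * y * (g : G)⁻¹
          have hyy' : x * y' * x⁻¹ = y := hyy
          rw [← hyy']
          group⟩
        rcases (inferInstance : (T'.subgroupOf T).Normal).eq_bot_or_eq_top with h | h
        · exfalso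
          have htC : x * t = t * x := (Subgroup.mem_centralizer_singleton_iff.1 ht.1).symm
          have htT' : t ∈ T' := ⟨t, ht.2, by
            show x * t * x⁻¹ = t
            rw [htC, mul_inv_cancel_right]⟩
          have h2 : (⟨t, ht.2⟩ : T) ∈ T'.subgroupOf T := htT'
          rw [h, Subgroup.mem_bot] at h2
          rw [show t = 1 from congrArg Subtype.val h2, orderOf_one] at hto
          exact hr.one_lt.ne hto
        · rw [Subgroup.subgroupOf_eq_top] at h
          have heq : T = T' := Subgroup.eq_of_le_of_card_ge h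
            (Nat.card_congr (T.equivMapOfInjective _ (MulAut.conj x).injective).toEquiv).ge
          intro y hy
          rw [heq]
          exact ⟨y, hy, rfl⟩
      have hxnorm : x ∈ Subgroup.normalizer (T : Set G) := by
        have hmap : T.map (MulAut.conj x).toMonoidHom = T := by
          refine Subgroup.eq_of_le_of_card_ge (fun y hy => ?_)
            (Nat.card_congr (T.equivMapOfInjective _ (MulAut.conj x).injective).toEquiv).le
          obtain ⟨y', hy', rfl⟩ := hy
          exact hxT y' hy'
        rw [Subgroup.mem_normalizer_iff]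
        intro y
        refine ⟨hxT y, fun hy => ?_⟩
        rw [← hmap] at hy
        obtain ⟨y', hy', he⟩ := hy
        exact (MulAut.conj x).injective he ▸ hy'
      -- inside `T ⟨x⟩`
      set H := T ⊔ Subgroup.zpowers x with hH
      haveI : (T.subgroupOf H).Normal := Subgroup.normal_subgroupOf_of_le_normalizer
        (sup_le Subgroup.le_normalizer (Subgroup.zpowers_le.2 hxnorm))
      have hxH : x ∈ H := le_sup_right (a := T) (Subgroup.mem_zpowers x)
      have hgen : T.subgroupOf H ⊔ Subgroup.zpowers (⟨x, hxH⟩ : H) = ⊤ := by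
        apply Subgroup.map_injective H.subtype_injective
        rw [Subgroup.map_sup, Subgroup.map_subgroupOf_eq_of_le le_sup_left, MonoidHom.map_zpowers,
          ← MonoidHom.range_eq_map, Subgroup.range_subtype, Subgroup.coe_subtype]
      have hCH : Subgroup.centralizer ({(⟨x, hxH⟩ : H)} : Set H) = C.subgroupOf H := by
        ext y
        rw [Subgroup.mem_subgroupOf, hC, Subgroup.mem_centralizer_singleton_iff,
          Subgroup.mem_centralizer_singleton_iff]
        exact ⟨fun h => congrArg Subtype.val h, fun h => Subtype.ext h⟩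
      have hidx : (Subgroup.centralizer ({(⟨x, hxH⟩ : H)} : Set H)).index = C.relIndex T := by
        rw [← Subgroup.relIndex_subgroupOf (le_sup_left : T ≤ H), ← hCH]
        set C' := Subgroup.centralizer ({(⟨x, hxH⟩ : H)} : Set H)
        have htop : C' ⊔ T.subgroupOf H = ⊤ := top_le_iff.1 (hgen ▸ sup_le le_sup_right
          (Subgroup.zpowers_le.2 (Subgroup.mem_sup_left
            (Subgroup.mem_centralizer_singleton_iff.2 rfl))))
        rw [← Subgroup.relIndex_top_right, ← htop,
          SylowNumber.relIndex_sup_normal C' C' _ le_rfl]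
      obtain ⟨i', -, hi'⟩ := (Nat.dvd_prime_pow hp.out).1 (hidx ▸ hdvd :
        (Subgroup.centralizer ({(⟨x, hxH⟩ : H)} : Set H)).index ∣ p ^ j)
      haveI : IsSimpleGroup (T.subgroupOf H) :=
        haveI : Nontrivial (T.subgroupOf H) :=
          (Subgroup.subgroupOfEquivOfLe (le_sup_left : T ≤ H)).toEquiv.nontrivial
        IsSimpleGroup.isSimpleGroup_of_surjective
          (Subgroup.subgroupOfEquivOfLe (le_sup_left : T ≤ H)).symm.toMonoidHom
          (Subgroup.subgroupOfEquivOfLe (le_sup_left : T ≤ H)).symm.surjective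
      have hna' : ¬ IsMulCommutative (T.subgroupOf H) := fun hc => hTna ⟨⟨fun a b => by
        have := congrArg (Subgroup.subgroupOfEquivOfLe (le_sup_left : T ≤ H))
          (hc.1.1 ((Subgroup.subgroupOfEquivOfLe (le_sup_left : T ≤ H)).symm a)
            ((Subgroup.subgroupOfEquivOfLe (le_sup_left : T ≤ H)).symm b))
        simpa using this⟩⟩
      intro s
      have h1 := commute_of_class_prime_pow (T.subgroupOf H) hna' (⟨x, hxH⟩ : H) hp.out hq
        (b := b) (by rw [Subgroup.orderOf_mk, hx]) hgen hi'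
        ⟨fac i s, le_sup_left (b := Subgroup.zpowers x) ⟨s, rfl⟩⟩ (Subgroup.mem_subgroupOf.2 ⟨s, rfl⟩)
      exact congrArg Subtype.val h1
    refine Subgroup.mem_centralizer_iff.2 fun m hm => ?_
    have hm' : (⟨m, hm⟩ : N) ∈ ((Subgroup.centralizer ({x} : Set G)).subgroupOf N) := by
      have h2 : e ⟨m, hm⟩ ∈ ((Subgroup.centralizer ({x} : Set G)).subgroupOf N).map e.toMonoidHom :=
        Subgroup.pi_mem_of_mulSingle_mem _ fun i =>
          ⟨e.symm (Pi.mulSingle i (e ⟨m, hm⟩ i)),
            Subgroup.mem_subgroupOf.2 (Subgroup.mem_centralizer_singleton_iff.2 (key i _).symm),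
            e.apply_symm_apply _⟩
      obtain ⟨m', hm', he⟩ := h2
      exact e.injective he ▸ hm'
    exact Subgroup.mem_centralizer_singleton_iff.1 (Subgroup.mem_subgroupOf.1 hm')

/-- An element of `q`-power order with class of `p`-power size lies in `O_q`, given `O_p = 1`. -/
theorem mem_pCore_of_class_prime_pow {q : ℕ} [hq : Fact q.Prime] :
    ∀ (n : ℕ) (G : Type u) [Group G] [Finite G], Nat.card G ≤ n → pCore p G = ⊥ → ∀ (x : G)
      (a b : ℕ), orderOf x = q ^ b → (Subgroup.centralizer ({x} : Set G)).index = p ^ a →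
      x ∈ pCore q G := by
  intro n
  induction n with
  | zero => intro G _ _ h; exact absurd h (Nat.not_le.mpr Nat.card_pos)
  | succ n ih =>
  intro G _ _ hn hpc x a b hx hcl
  classical
  rcases subsingleton_or_nontrivial G with hG | hG
  · rw [Subsingleton.elim x 1]; exact one_mem _
  obtain ⟨N, hNn, hN, -, hmin⟩ :=
    MinimalNormal.exists_minimal_normal_le (G := G) (M := ⊤) inferInstance top_ne_bot
  haveI := hNn
  have hxC := mem_centralizer_of_minimal hpc hq.out x hx hcl N hN hmin
  set C := Subgroup.centralizer (N : Set G) with hC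
  haveI hCn : C.Normal := inferInstance
  by_cases hab : IsMulCommutative N
  · -- abelian `N`
    have hNC : N ≤ C := fun m hm => Subgroup.mem_centralizer_iff.2 fun k hk =>
      congrArg Subtype.val (hab.1.1 ⟨k, hk⟩ ⟨m, hm⟩)
    haveI : Group.IsSolvable N := Group.isSolvable_of_comm fun a b => hab.1.1 a b
    obtain ⟨-, r, hr, hexp⟩ := MinimalNormal.elementaryAbelian N hN hmin
    haveI := Fact.mk hr
    have hNr : IsPGroup r N := fun n => ⟨1, Subtype.ext (by simpa using hexp n n.2)⟩
    have hrp : r ≠ p := fun h => hN (le_bot_iff.1 (hpc ▸ PSolvable.le_pCore (h ▸ hNr)))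
    set π₁ := QuotientGroup.mk' N with hπ₁
    set π₂ := QuotientGroup.mk' (pCore p (G ⧸ N)) with hπ₂
    set f := π₂.comp π₁ with hfdef
    have hf : Function.Surjective f :=
      (QuotientGroup.mk'_surjective _).comp (QuotientGroup.mk'_surjective N)
    have hlt : Nat.card ((G ⧸ N) ⧸ pCore p (G ⧸ N)) ≤ n := by
      have h1 : Nat.card ((G ⧸ N) ⧸ pCore p (G ⧸ N)) ≤ Nat.card (G ⧸ N) :=
        Nat.le_of_dvd Nat.card_pos (Subgroup.card_quotient_dvd_card _)
      have h2 : Nat.card (G ⧸ N) < Nat.card G := by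
        rw [← N.index_eq_card, ← N.card_mul_index]
        exact lt_mul_of_one_lt_left (Nat.pos_of_ne_zero Subgroup.index_ne_zero_of_finite)
          ((Subgroup.one_lt_card_iff_ne_bot N).2 hN)
      omega
    have hpc' : pCore p ((G ⧸ N) ⧸ pCore p (G ⧸ N)) = ⊥ := by
      refine PSolvable.eq_bot_of_comap_mk'_le _ (PSolvable.le_pCore ?_)
      obtain ⟨i, hi⟩ := (PSolvable.pCore_isPGroup (p := p) (G := G ⧸ N)).exists_card_eq
      obtain ⟨j, hj⟩ := (PSolvable.pCore_isPGroup (p := p)
        (G := (G ⧸ N) ⧸ pCore p (G ⧸ N))).exists_card_eq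
      exact IsPGroup.of_card (n := i + j) (by rw [PSolvable.card_comap_mk', hi, hj, pow_add])
    obtain ⟨c, -, hc⟩ := (Nat.dvd_prime_pow hq.out).1 (hx ▸ orderOf_map_dvd f x)
    obtain ⟨a', -, ha'⟩ := (Nat.dvd_prime_pow hp.out).1 (hcl ▸ index_centralizer_map_dvd hf x)
    have hfx := ih _ hlt hpc' (f x) a' c hc ha'
    set K := (pCore q ((G ⧸ N) ⧸ pCore p (G ⧸ N))).comap f with hK
    haveI : K.Normal := inferInstance
    set M0 := f.ker ⊓ C with hM0
    -- `M0 = N`
    have hNker : N ≤ f.ker := fun m hm => by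
      rw [MonoidHom.mem_ker, hfdef, MonoidHom.comp_apply, show π₁ m = 1 from (QuotientGroup.eq_one_iff m).2 hm, map_one]
    have hM0N : M0 ≤ N := by
      have hg : ∀ y : M0, π₁ y ∈ pCore p (G ⧸ N) := fun y => by
        have : (y : G) ∈ f.ker := y.2.1
        rw [MonoidHom.mem_ker, hfdef, MonoidHom.comp_apply, hπ₂, QuotientGroup.mk'_apply,
          QuotientGroup.eq_one_iff] at this
        exact this
      let g : M0 →* pCore p (G ⧸ N) := (π₁.comp M0.subtype).codRestrict _ hg
      have hnil : Group.IsNilpotent M0 := by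
        haveI : Group.IsNilpotent (pCore p (G ⧸ N)) := PSolvable.pCore_isPGroup.isNilpotent
        refine Subgroup.isNilpotent_of_ker_le_center g (fun y hy => ?_)
        have hyN : (y : G) ∈ N := (QuotientGroup.eq_one_iff _).1 (congrArg Subtype.val hy)
        exact Subgroup.mem_center_iff.2 fun z =>
          Subtype.ext (Subgroup.mem_centralizer_iff.1 z.2.2 y hyN).symm
      intro y hy
      obtain ⟨k, hk⟩ := PSolvable.pCore_isPGroup (p := p) (G := G ⧸ N) ⟨_, hg ⟨y, hy⟩⟩
      have hk' : y ^ p ^ k ∈ N := by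
        rw [← QuotientGroup.eq_one_iff, QuotientGroup.mk_pow]
        exact congrArg Subtype.val hk
      have h1 : (y ^ r) ^ p ^ k = 1 := by
        rw [← pow_mul, mul_comm, pow_mul]; exact hexp _ hk'
      obtain ⟨i, -, hi⟩ := (Nat.dvd_prime_pow hp.out).1 (orderOf_dvd_of_pow_eq_one h1)
      have h2 := mem_pCore_of_nilpotent_normal (q := p) M0 hnil (pow_mem hy r) ⟨i, hi⟩
      rw [hpc, Subgroup.mem_bot] at h2
      obtain ⟨m, hm⟩ := exists_pow_eq_self_of_coprime (x := y) (n := p ^ k)
        (Nat.Coprime.coprime_dvd_right (orderOf_dvd_of_pow_eq_one h2)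
          (((Nat.coprime_primes hp.out hr).2 (Ne.symm hrp)).pow_left k))
      rw [← hm]
      exact pow_mem hk' m
    -- `J` is nilpotent
    set J := K ⊓ C with hJ
    have hJnil : Group.IsNilpotent J := by
      let g : J →* pCore q ((G ⧸ N) ⧸ pCore p (G ⧸ N)) :=
        (f.comp J.subtype).codRestrict _ fun y => y.2.1
      haveI : Group.IsNilpotent (pCore q ((G ⧸ N) ⧸ pCore p (G ⧸ N))) :=
        PSolvable.pCore_isPGroup.isNilpotent
      refine Subgroup.isNilpotent_of_ker_le_center g (fun y hy => ?_)
      have hyN : (y : G) ∈ N := hM0N ⟨MonoidHom.mem_ker.2 (congrArg Subtype.val hy), y.2.2⟩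
      exact Subgroup.mem_center_iff.2 fun z =>
        Subtype.ext (Subgroup.mem_centralizer_iff.1 z.2.2 y hyN).symm
    exact mem_pCore_of_nilpotent_normal J hJnil ⟨hfx, hxC⟩ ⟨b, hx⟩
  · -- non-abelian `N`
    have hlt : Nat.card C ≤ n := by
      have hne : C ≠ ⊤ := fun h => hab ⟨⟨fun a b => Subtype.ext
        (Subgroup.mem_centralizer_iff.1 (h ▸ Subgroup.mem_top (b : G) : (b : G) ∈ C) a a.2)⟩⟩
      have : Nat.card C < Nat.card G := lt_of_le_of_ne C.card_le_card_group
        fun h => hne (C.eq_top_of_card_eq h)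
      omega
    have hpcC : pCore p C = ⊥ := by
      have h1 := PiCore.map_subtype_piCore_of_normal (π := {p}) C
      rw [← PiCore.pCore_eq_piCore, ← PiCore.pCore_eq_piCore, hpc, bot_inf_eq] at h1
      exact (Subgroup.map_eq_bot_iff_of_injective _ C.subtype_injective).1 h1
    have hcl' : (Subgroup.centralizer ({(⟨x, hxC⟩ : C)} : Set C)).index ∣ p ^ a := by
      rw [← hcl, show Subgroup.centralizer ({(⟨x, hxC⟩ : C)} : Set C) =
        (Subgroup.centralizer ({x} : Set G)).subgroupOf C by
          ext y
          rw [Subgroup.mem_subgroupOf, Subgroup.mem_centralizer_singleton_iff,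
            Subgroup.mem_centralizer_singleton_iff]
          exact ⟨fun h => congrArg Subtype.val h, fun h => Subtype.ext h⟩]
      exact relIndex_dvd_index_of_normal' _ C
    obtain ⟨a', -, ha'⟩ := (Nat.dvd_prime_pow hp.out).1 hcl'
    have h2 := ih C hlt hpcC ⟨x, hxC⟩ a' b (by rw [Subgroup.orderOf_mk, hx]) ha'
    have h3 : x ∈ (pCore q C).map C.subtype := ⟨_, h2, rfl⟩
    rw [PiCore.pCore_eq_piCore, PiCore.map_subtype_piCore_of_normal, ← PiCore.pCore_eq_piCore] at h3
    exact h3.1

end Cfsg.Agent.Lib.PrimePowerClass
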