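import Cfsg.Agent.Lib.Blocks.BlockOrth
import Cfsg.Agent.Lib.Blocks.ClassAlgebra
import Cfsg.Agent.Lib.Blocks.HeightZero
import Cfsg.Agent.Lib.Burnside.Paqb
import Cfsg.Agent.Lib.CharCount.Basic
import Cfsg.Agent.Lib.Chars.Integral

/-!
An automorphism of prime power order of a non-abelian simple group whose class in the extension
has prime power size is trivial (Kazarin). The proof uses the principal block for a third prime.
-/

set_option autoImplicit false
set_option linter.style.haveILetI false

namespace Cfsg.Agent.Lib.PrimePowerClass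

open Cfsg
open Cfsg.Agent.Lib
open scoped ComplexConjugate

universe u

variable {G : Type u} [Group G] [Finite G]

/-- A root of unity of order prime to the residue characteristic congruent to one is one. -/
theorem eq_one_of_pow_eq_one {r : ℕ} {M : Ideal AlgInt} [M.IsPrime] (hM : IsPModular r M) {z : ℂ}
    {m : ℕ} (hm : ¬ r ∣ m) (hz : z ^ m = 1) (h : MemLocalIdeal M (z - 1)) : z = 1 := by
  have hm0 : m ≠ 0 := by rintro rfl; exact hm (dvd_zero r)
  by_contra hne
  have hint : IsIntegral ℤ z := IsIntegral.of_pow (Nat.pos_of_ne_zero hm0) (hz ▸ isIntegral_one)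
  have hsum : ∑ i ∈ Finset.range m, z ^ i = 0 := by
    have h1 := geom_sum_mul z m
    rw [hz, sub_self] at h1
    exact (mul_eq_zero.1 h1).resolve_right (sub_ne_zero.2 hne)
  let w : Blocks.localRing M := ⟨z, Blocks.isIntegral_mem_localRing hint⟩
  have hw : Blocks.residue M w = 1 := by
    rw [← map_one (Blocks.residue M), Blocks.residue_eq_iff]
    exact h
  have h2 : Blocks.residue M (∑ i ∈ Finset.range m, w ^ i) = 0 := by
    rw [show ∑ i ∈ Finset.range m, w ^ i = 0 from Subtype.ext (by simpa [w] using hsum), map_zero]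
  rw [map_sum] at h2
  simp only [map_pow, hw, one_pow, Finset.sum_const, Finset.card_range, nsmul_eq_mul, mul_one] at h2
  rw [← map_natCast (Blocks.residue M), Blocks.residue_eq_zero_iff] at h2
  exact hm ((Blocks.memLocalIdeal_natCast_iff hM m).1 (by simpa using h2))

omit [Finite G] in
/-- An irreducible representation by scalars has degree one. -/
theorem finrank_eq_one_of_scalar {n : ℕ} (ρ : Representation ℂ G (Fin n → ℂ)) [ρ.IsIrreducible]
    (h : ∀ g, ∃ c : ℂ, ρ g = c • (1 : Module.End ℂ (Fin n → ℂ))) : n = 1 := by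
  have := Chars.nontrivial_of_isIrreducible ρ
  obtain ⟨v, hv⟩ := exists_ne (0 : Fin n → ℂ)
  let S : Subrepresentation ρ :=
    ⟨Submodule.span ℂ {v}, fun g w hw => by
      obtain ⟨c, hc⟩ := h g
      rw [hc]
      exact Submodule.smul_mem _ c hw⟩
  have hS : S = ⊤ := (eq_bot_or_eq_top S).resolve_left fun e => hv (by
    have := Submodule.mem_span_singleton_self (R := ℂ) v
    rw [show Submodule.span ℂ {v} = ⊥ from congrArg Subrepresentation.toSubmodule e] at this
    exact (Submodule.mem_bot ℂ).mp this)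
  have h1 := finrank_span_singleton (K := ℂ) hv
  rw [show Submodule.span ℂ {v} = ⊤ from congrArg Subrepresentation.toSubmodule hS,
    finrank_top, Module.finrank_fin_fun] at h1
  exact h1

/-- If `G = T ⟨x⟩` with `T` non-abelian simple and normal, `x` of prime power order with class of
prime power size, then `x` centralizes `T`. -/
theorem commute_of_class_prime_pow (T : Subgroup G) [hTn : T.Normal] [IsSimpleGroup T]
    (hT : ¬ IsMulCommutative T) (x : G) {p q a b : ℕ} (hp : p.Prime) (hq : q.Prime)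
    (hx : orderOf x = q ^ b) (hgen : T ⊔ Subgroup.zpowers x = ⊤)
    (hcl : (Subgroup.centralizer ({x} : Set G)).index = p ^ a) : ∀ t ∈ T, x * t = t * x := by
  classical
  cases nonempty_fintype G
  by_contra hcon
  -- a third prime
  obtain ⟨r, hr, hrT, hrp, hrq⟩ : ∃ r, r.Prime ∧ r ∣ Nat.card T ∧ r ≠ p ∧ r ≠ q := by
    by_contra hno
    push Not at hno
    have hsol : Group.IsSolvable T := by
      rcases eq_or_ne p q with rfl | hpq
      · exact Burnside.isSolvable_of_card_eq_prime_pow_mul
          (a := (Nat.card T).primeFactorsList.length) (b := 0) hp hp (by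
          rw [pow_zero, mul_one]
          exact Nat.eq_prime_pow_of_unique_prime_dvd Nat.card_pos.ne' fun {r} hr hd =>
            by_contra fun hne => hne (hno r hr hd hne))
      · obtain ⟨i, m, hm, hc⟩ := Nat.exists_eq_pow_mul_and_not_dvd (Nat.card_pos (α := T)).ne' p hp.ne_one
        have hm0 : m ≠ 0 := by rintro rfl; exact hm (dvd_zero p)
        have hmq : m = q ^ m.primeFactorsList.length :=
          Nat.eq_prime_pow_of_unique_prime_dvd hm0 fun {r} hr hd =>
            hno r hr (hc ▸ hd.mul_left _) fun h => hm (h ▸ hd)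
        exact Burnside.isSolvable_of_card_eq_prime_pow_mul hp hq (hc.trans (by rw [← hmq]))
    exact hT ⟨⟨IsSimpleGroup.comm_iff_isSolvable.mpr hsol⟩⟩
  haveI : Fact r.Prime := ⟨hr⟩
  obtain ⟨M, hM⟩ := CharCount.exists_isPModular r hr
  haveI := Blocks.isPModular_isPrime hM
  have hpa : ¬ r ∣ p ^ a := fun h => hrp ((Nat.prime_dvd_prime_iff_eq hr hp).1 (hr.dvd_of_dvd_pow h))
  have hqb : ¬ r ∣ q ^ b := fun h => hrq ((Nat.prime_dvd_prime_iff_eq hr hq).1 (hr.dvd_of_dvd_pow h))
  obtain ⟨⟨z, hzT⟩, hz⟩ := exists_prime_orderOf_dvd_card' (G := T) r hrT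
  rw [Subgroup.orderOf_mk] at hz
  set B := principalBlock M G with hB
  -- nontrivial characters of the principal block have degree divisible by `p`
  have hdeg : ∀ χ : IrrCharacter G, χ ∈ B → χ ≠ Chars.trivialIrr G →
      ∃ w : ℂ, IsIntegral ℤ w ∧ (χ : G → ℂ) 1 * conj ((χ : G → ℂ) z) = (p : ℂ) * w := by
    intro χ hχ hne
    have hx0 : (χ : G → ℂ) x ≠ 0 := by
      intro h0
      have := hχ x
      rw [centralChar, centralChar, h0, mul_zero, zero_div, sub_zero, mul_one, div_one, hcl] at this
      exact hpa ((Blocks.memLocalIdeal_natCast_iff hM _).1 this)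
    obtain ⟨n, ρ, hρ, hρχ⟩ := Chars.irr_exists_rep χ
    have h1 : (χ : G → ℂ) 1 = (n : ℂ) := by
      rw [← hρχ, Representation.char_one, Module.finrank_fin_fun]
    by_cases hpn : p ∣ n
    · obtain ⟨m, hm⟩ := hpn
      refine ⟨(m : ℂ) * conj ((χ : G → ℂ) z), ?_, ?_⟩
      · rw [← Chars.irr_inv]
        exact IsIntegral.mul (map_natCast (algebraMap ℤ ℂ) m ▸ isIntegral_algebraMap)
          (Chars.irr_isIntegral χ _)
      · rw [h1, hm]; push_cast; ring
    exfalso
    rcases Burnside.char_eq_zero_or_scalar ρ x (by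
      rw [Blocks.natCard_isConj, hcl, Module.finrank_fin_fun]
      exact (hp.coprime_iff_not_dvd.2 hpn).pow_left a) with h | ⟨c, hc⟩
    · exact hx0 (hρχ ▸ h)
    set K := MonoidHom.ker (ρ : G →* Module.End ℂ (Fin n → ℂ)) with hK
    have hcomm : ∀ g, ρ x * ρ g = ρ g * ρ x := fun g => by
      rw [hc, Algebra.mul_smul_comm, Algebra.smul_mul_assoc, mul_one, one_mul]
    rcases ((inferInstance : K.Normal).subgroupOf T).eq_bot_or_eq_top with hKT | hKT
    · refine hcon fun t ht => ?_
      have hmem : x * t * x⁻¹ * t⁻¹ ∈ T := mul_mem (hTn.conj_mem t ht x) (inv_mem ht)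
      have hker : x * t * x⁻¹ * t⁻¹ ∈ K := by
        rw [hK, MonoidHom.mem_ker, map_mul, map_mul, map_mul, hcomm t, mul_assoc (ρ t) (ρ x),
          ← map_mul ρ x, mul_inv_cancel, map_one, mul_one, ← map_mul, mul_inv_cancel, map_one]
      have h2 : (⟨_, hmem⟩ : T) ∈ K.subgroupOf T := hker
      rw [hKT, Subgroup.mem_bot] at h2
      exact mul_inv_eq_iff_eq_mul.1 (mul_inv_eq_one.1 (congrArg Subtype.val h2))
    · rw [Subgroup.subgroupOf_eq_top] at hKT
      -- all values are powers of the scalar `c`
      have hscal : ∀ g : G, ∃ i : ℕ, ρ g = (c ^ i) • (1 : Module.End ℂ (Fin n → ℂ)) := by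
        intro g
        have hg : g ∈ T ⊔ Subgroup.zpowers x := hgen ▸ Subgroup.mem_top g
        obtain ⟨t, ht, y, hy, rfl⟩ := Subgroup.mem_sup_of_normal_left.1 hg
        obtain ⟨i, rfl⟩ := (isOfFinOrder_of_finite x).mem_powers_iff_mem_zpowers.2 hy
        refine ⟨i, ?_⟩
        rw [map_mul, MonoidHom.mem_ker.1 (hKT ht), one_mul, map_pow, hc, smul_pow, one_pow]
      have hn1 : n = 1 := finrank_eq_one_of_scalar ρ fun g => ⟨_, (hscal g).choose_spec⟩
      subst hn1
      have hval : ∀ g i, ρ g = (c ^ i) • (1 : Module.End ℂ (Fin 1 → ℂ)) → (χ : G → ℂ) g = c ^ i := by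
        intro g i hg
        rw [← hρχ, Representation.character, hg, map_smul, LinearMap.trace_one]
        simp
      have hxc : (χ : G → ℂ) x = c := by simpa using hval x 1 (by rw [pow_one]; exact hc)
      have hcq : c ^ q ^ b = 1 := by
        have h2 := hval (x ^ q ^ b) (q ^ b) (by rw [map_pow, hc, smul_pow, one_pow])
        rw [← hx, pow_orderOf_eq_one, h1, hx, Nat.cast_one] at h2
        exact h2.symm
      have hc1 : c = 1 := by
        refine eq_one_of_pow_eq_one hM hqb hcq ?_
        have h3 := hχ x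
        rw [centralChar, centralChar, hxc, h1, hcl, Nat.cast_one, div_one, div_one, ← mul_sub] at h3
        have h3 := Blocks.memLocalIdeal_mul_left (M := M) (x := ((-1 : ℤ) : ℂ))
          (Blocks.isIntegral_mem_localRing (isIntegral_algebraMap (R := ℤ) (A := ℂ) (x := -1))) h3
        rw [show ((-1 : ℤ) : ℂ) * (((p ^ a : ℕ) : ℂ) * (1 - c)) = ((p ^ a : ℕ) : ℂ) * (c - 1) by
          push_cast; ring] at h3
        by_contra hnot
        exact Blocks.not_memLocalIdeal_mul (Blocks.natCast_mem_localRing (p ^ a))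
          (Subring.sub_mem _ (Blocks.isIntegral_mem_localRing
            (hxc ▸ Chars.irr_isIntegral χ x)) (Subring.one_mem _))
          (fun h => hpa ((Blocks.memLocalIdeal_natCast_iff hM _).1 h)) hnot h3
      refine hne (Subtype.ext (funext fun g => ?_))
      obtain ⟨i, hi⟩ := hscal g
      rw [hval g i hi, hc1, one_pow]
      exact (Chars.trivialIrr_apply g).symm
  -- weak block orthogonality
  have horth := Blocks.weak_block_orth (p := r) hM (B := B)
    ⟨Chars.trivialIrr G, by
      rw [hB, principalBlock]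
      congr 1⟩
    (g := 1) (h := z) (by rw [orderOf_one]; exact hr.not_dvd_one) (by rw [hz])
  rw [finsum_eq_sum_of_fintype] at horth
  rw [← Finset.add_sum_erase _ _ (Finset.mem_univ (Chars.trivialIrr G))] at horth
  have htriv : Chars.trivialIrr G ∈ B := by
    intro g
    have : centralChar ((Chars.trivialIrr G : IrrCharacter G) : G → ℂ) g =
        centralChar (fun _ => (1 : ℂ)) g := by
      simp [centralChar]
    rw [this, sub_self]
    exact Blocks.memLocalIdeal_zero
  simp only [finsum_eq_if, htriv, if_true, Chars.trivialIrr_apply, map_one, mul_one] at horth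
  have hterm : ∀ χ ∈ (Finset.univ : Finset (IrrCharacter G)).erase (Chars.trivialIrr G),
      ∃ w : ℂ, IsIntegral ℤ w ∧
        (if χ ∈ B then (χ : G → ℂ) 1 * conj ((χ : G → ℂ) z) else 0) = (p : ℂ) * w := by
    intro χ hχ
    by_cases h : χ ∈ B
    · rw [if_pos h]; exact hdeg χ h (Finset.mem_erase.1 hχ).1
    · exact ⟨0, isIntegral_zero, by rw [if_neg h, mul_zero]⟩
  choose w hw1 hw2 using hterm
  rw [← Finset.sum_attach, Finset.sum_congr rfl fun χ _ => hw2 χ.1 χ.2, ← Finset.mul_sum] at horth
  set W := ∑ χ ∈ ((Finset.univ : Finset (IrrCharacter G)).erase (Chars.trivialIrr G)).attach,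
    w χ.1 χ.2 with hW
  have hWint : IsIntegral ℤ W := IsIntegral.sum _ fun χ _ => hw1 _ _
  have hWeq : W = algebraMap ℚ ℂ (-1 / p) := by
    rw [map_div₀, map_neg, map_one, map_natCast, eq_div_iff (Nat.cast_ne_zero.mpr hp.ne_zero)]
    linear_combination horth
  rw [hWeq, isIntegral_algebraMap_iff (algebraMap ℚ ℂ).injective,
    IsIntegrallyClosed.isIntegral_iff] at hWint
  obtain ⟨m, hm⟩ := hWint
  have h1 : (p : ℤ) * m = -1 := by
    have hp' : (p : ℚ) ≠ 0 := Nat.cast_ne_zero.mpr hp.ne_zero
    have : ((p : ℤ) : ℚ) * (m : ℚ) = ((-1 : ℤ) : ℚ) := by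
      rw [show (m : ℚ) = algebraMap ℤ ℚ m from rfl, hm]; push_cast; field_simp
    exact_mod_cast this
  exact hp.not_dvd_one (Int.natCast_dvd_natCast.1 (Dvd.intro (-m) (by push_cast; linarith)))

end Cfsg.Agent.Lib.PrimePowerClass
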